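import Groth.Agent.Lib.StrictTf14.Core
import Groth.Agent.Lib.RankStratum13.Basic
import Groth.Agent.Lib.ModM1.Pull
import Groth.Agent.Lib.TensorMod.Invertible
import Groth.Prelude.Def_CInt

/-!
The strict transform along the blow-up in a Fitting ideal is generated by few sections, and free.
-/

set_option autoImplicit false
universe u

set_option backward.isDefEq.respectTransparency.types false

open CategoryTheory CategoryTheory.Limits AlgebraicGeometry TopologicalSpace Opposite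

namespace Groth.Agent.StrictTf14

variable {X : Scheme.{u}} {F : X.Modules}

/-- The ideals of a pullback to an open subscheme are the ideals on the smaller opens. -/
theorem ideal_comap_ι (K : X.IdealSheafData) {P : X.Opens} {W0 : (P : Scheme.{u}).Opens}
    (hW0 : IsAffineOpen W0) :
    (K.comap P.ι).ideal ⟨W0, hW0⟩ = K.ideal ⟨P.ι ''ᵁ W0, hW0.image_of_isOpenImmersion P.ι⟩ := by
  rw [EffCartier.comap_ideal K P.ι ⟨P.ι ''ᵁ W0, hW0.image_of_isOpenImmersion P.ι⟩ ⟨W0, hW0⟩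
    (by simp), Scheme.Opens.ι_appLE]
  refine (congrArg (fun φ => Ideal.map φ _) ?_).trans (Ideal.map_id _)
  exact congrArg CommRingCat.Hom.hom (X.presheaf.map_id (op (P.ι ''ᵁ W0)))

theorem exists_affine_nhd_in (P : X.Opens) {V : X.Opens} (y : X) (hyP : y ∈ P) (hyV : y ∈ V) :
    ∃ (W0 : (P : Scheme.{u}).Opens), IsAffineOpen W0 ∧ y ∈ P.ι ''ᵁ W0 ∧ P.ι ''ᵁ W0 ≤ V := by
  obtain ⟨W0, hW0, hy0, hle⟩ := exists_isAffineOpen_mem_and_subset (x := (⟨y, hyP⟩ : P))
    (U := P.ι ⁻¹ᵁ V) hyV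
  exact ⟨W0, hW0, ⟨⟨y, hyP⟩, hy0, rfl⟩, fun _ ⟨z, hz, hzy⟩ => hzy ▸ hle hz⟩

theorem germ_eq_zero_of_comap_eq_bot (K : X.IdealSheafData) {P : X.Opens} (hK : K.comap P.ι = ⊥)
    {V : X.Opens} (hV : IsAffineOpen V) {z : Γ(X, V)} (hz : z ∈ K.ideal ⟨V, hV⟩) {y : X}
    (hyP : y ∈ P) (hyV : y ∈ V) : X.presheaf.germ V y hyV z = 0 := by
  obtain ⟨W0, hW0, hy0, hle⟩ := exists_affine_nhd_in P y hyP hyV
  have hmem : (X.presheaf.map (homOfLE hle).op).hom z ∈
      K.ideal ⟨P.ι ''ᵁ W0, hW0.image_of_isOpenImmersion P.ι⟩ :=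
    (K.map_ideal (U := ⟨P.ι ''ᵁ W0, hW0.image_of_isOpenImmersion P.ι⟩) (V := ⟨V, hV⟩) hle).le
      (Ideal.mem_map_of_mem _ hz)
  rw [← ideal_comap_ι K hW0, hK] at hmem
  rw [← TopCat.Presheaf.germ_res_apply X.presheaf (homOfLE hle) y hy0 z]
  refine (congrArg (X.presheaf.germ _ y hy0) ?_).trans (map_zero _)
  exact (Ideal.mem_bot (R := Γ((P : Scheme.{u}), W0))).mp hmem

theorem comap_eq_of_rank (hF : Coh.IsQCoh F) (hFT : CohB1.IsFT F) (U : X.Opens) {k : ℕ}
    (hfree : FlatMod.IsFinLocFreeOfRank k (F.restrict U.ι)) (i : ℕ) :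
    (i < k → (Fitt.sheafIdeal F i).comap U.ι = ⊥) ∧
      (k ≤ i → (Fitt.sheafIdeal F i).comap U.ι = ⊤) := by
  rw [Fitting26.comap_eq U.ι hF hFT i]
  refine RankStratum13.eq_of_freeMod (M1.isQCoh_pullback _ hF) (M1.isFT_pullback _ hFT) k
    (fun x => ?_) i
  obtain ⟨W, hx, ⟨e⟩⟩ := hfree x
  exact ⟨W, hx, ⟨(Scheme.Modules.restrictFunctor W.ι).mapIso
    ((Scheme.Modules.restrictFunctorIsoPullback U.ι).app F).symm ≪≫ e⟩⟩

variable {X' : Scheme.{u}} {b : X' ⟶ X} {k : ℕ}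

/-- If `F` is free of rank `k` off the centre, the lower Fitting ideal dies on the blow-up. -/
theorem comap_eq_bot_of_free (hF : Coh.IsQCoh F) (hFT : CohB1.IsFT F)
    (hb : BlowUp.IsBlowUp b (Fitt.sheafIdeal F k))
    (hfree : FlatMod.IsFinLocFreeOfRank k
      (F.restrict (Scheme.Opens.ι (Fitt.sheafIdeal F k).support.compl)))
    (i : ℕ) (hi : i < k) : (Fitt.sheafIdeal F i).comap b = ⊥ := by
  refine EffCartier.eq_of_forall_exists fun x => ?_
  obtain ⟨⟨V, hV⟩, hxV, f, hf0, hf⟩ := hb.1 x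
  refine ⟨⟨V, hV⟩, hxV, ?_⟩
  refine le_antisymm (fun z hz => ?_) bot_le
  let Wc : X.Opens := (Fitt.sheafIdeal F k).support.compl
  let P : X'.Opens := b ⁻¹ᵁ Wc
  have hP : ((Fitt.sheafIdeal F i).comap b).comap P.ι = ⊥ := by
    rw [← Scheme.IdealSheafData.comap_comp, ← morphismRestrict_ι,
      Scheme.IdealSheafData.comap_comp, (comap_eq_of_rank hF hFT Wc hfree i).1 hi,
      Scheme.IdealSheafData.comap_bot]
  have hres : X'.presheaf.map (homOfLE (X'.basicOpen_le f)).op z = 0 := by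
    refine TopCat.Presheaf.section_ext X'.sheaf _ _ 0 fun y hy => ?_
    refine (TopCat.Presheaf.germ_res_apply X'.presheaf _ y hy z).trans ?_
    refine (germ_eq_zero_of_comap_eq_bot _ hP hV hz ?_ (X'.basicOpen_le f hy)).trans
      (map_zero _).symm
    intro hys
    have hmem : y ∈ ((Fitt.sheafIdeal F k).comap b).support := by
      rw [Scheme.IdealSheafData.support_comap]; exact hys
    rw [Scheme.IdealSheafData.mem_support_iff_of_mem (U := ⟨V, hV⟩) (X'.basicOpen_le f hy),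
      Scheme.mem_zeroLocus_iff] at hmem
    exact hmem f (hf ▸ Ideal.mem_span_singleton_self f) hy
  haveI := hV.isLocalization_basicOpen f
  obtain ⟨⟨_, n, rfl⟩, hn⟩ := (IsLocalization.map_eq_zero_iff (Submonoid.powers f)
    Γ(X', X'.basicOpen f) z).1 hres
  exact (Submodule.mem_bot _).mpr ((pow_mem hf0 n).1 z hn)

variable {G : X'.Modules} {π : (Scheme.Modules.pullback b).obj F ⟶ G}

theorem exists_nhd (hF : Coh.IsQCoh F) (hFT : CohB1.IsFT F)
    (hb : BlowUp.IsBlowUp b (Fitt.sheafIdeal F k))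
    (hG : BlowUp.IsStrictTransform b (Fitt.sheafIdeal F k) F G π) (x : X') :
    ∃ (D : X'.Opens) (q : FlatMod.freeMod (↑D) k ⟶ G.restrict D.ι), x ∈ D ∧ Epi q ∧
      ((k = 0 ∨ (Fitt.sheafIdeal F (k - 1)).comap b = ⊥) → IsIso q) := by
  obtain ⟨⟨V, hV⟩, hxV, f, hf0, hf⟩ := hb.1 x
  haveI : Epi π := hG.1
  obtain ⟨D, q, hxD, hepi, hiso⟩ := exists_hom_basicOpen π
    (BlowUp.exceptional b (Fitt.sheafIdeal F k)) hG.2 (M1.isQCoh_pullback b hF)
    (M1.isFT_pullback b hFT) k (Fitting26.comap_eq b hF hFT k) hV hf0 hf hxV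
  refine ⟨D, (M1.freeModFrIso _ k).hom ≫ q, hxD, epi_comp _ _, fun h => ?_⟩
  haveI := hiso (h.imp_right fun h' => by
    rw [← Fitting26.sheafIdeal_ideal (M1.isQCoh_pullback b hF) (M1.isFT_pullback b hFT) _ ⟨V, hV⟩,
      ← Fitting26.comap_eq b hF hFT, h']
    rfl)
  infer_instance

theorem isFinLocFreeOfRank (hF : Coh.IsQCoh F) (hFT : CohB1.IsFT F)
    (hb : BlowUp.IsBlowUp b (Fitt.sheafIdeal F k))
    (hG : BlowUp.IsStrictTransform b (Fitt.sheafIdeal F k) F G π)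
    (h0 : k = 0 ∨ (Fitt.sheafIdeal F (k - 1)).comap b = ⊥) :
    FlatMod.IsFinLocFreeOfRank k G := fun x => by
  obtain ⟨D, q, hx, -, hiso⟩ := exists_nhd hF hFT hb hG x
  haveI := hiso h0
  exact ⟨D, hx, ⟨(asIso q).symm⟩⟩

/-- A scheme-theoretically dense open detects the vanishing of the lower Fitting ideals. -/
theorem eq_bot_of_dense {U : X.Opens} (hU : CInt.IsSchematicallyDense U) (K : X.IdealSheafData)
    (hK : K.comap U.ι = ⊥) : K = ⊥ := by
  refine EffCartier.eq_of_forall_exists fun x => ?_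
  obtain ⟨V, hV, hxV, -⟩ := exists_isAffineOpen_mem_and_subset (x := x) (U := ⊤) trivial
  refine ⟨⟨V, hV⟩, hxV, le_antisymm (fun z hz => (Submodule.mem_bot _).mpr (hU V ?_)) bot_le⟩
  rw [map_zero]
  refine TopCat.Presheaf.section_ext X.sheaf _ _ 0 fun y hy => ?_
  exact (TopCat.Presheaf.germ_res_apply X.presheaf _ y hy z).trans
    ((germ_eq_zero_of_comap_eq_bot K hK hV hz hy.2 hy.1).trans (map_zero _).symm)

theorem mono_restrict_of_comap_eq_top
    (hG : BlowUp.IsStrictTransform b (Fitt.sheafIdeal F k) F G π) (hF : Coh.IsQCoh F)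
    (P : X'.Opens)
    (hP : (BlowUp.exceptional b (Fitt.sheafIdeal F k)).comap P.ι = ⊤) :
    Mono ((Scheme.Modules.restrictFunctor P.ι).map π) := by
  haveI := M1.isQCoh_pullback b hF
  rw [M1.mono_iff_app]
  intro W
  show Function.Injective (π.app (P.ι ''ᵁ W))
  rw [injective_iff_map_eq_zero]
  intro m hm
  refine TopCat.Presheaf.section_ext
    ⟨((Scheme.Modules.pullback b).obj F).presheaf, ((Scheme.Modules.pullback b).obj F).isSheaf⟩
    _ m 0 fun y hy => ?_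
  have hyP : y ∈ P := P.ι_image_le W hy
  obtain ⟨W0, hW0, hy0, hle⟩ := exists_affine_nhd_in P y hyP hy
  have hzero : M1.mres ((Scheme.Modules.pullback b).obj F) hle m = 0 := by
    obtain ⟨n, hn⟩ := (hG.2 ⟨P.ι ''ᵁ W0, hW0.image_of_isOpenImmersion P.ι⟩
      (M1.mres ((Scheme.Modules.pullback b).obj F) hle m)).mp
      ((M1.app_mres _ _ _).trans ((congrArg _ hm).trans (map_zero _)))
    refine (one_smul Γ(X', P.ι ''ᵁ W0) _).symm.trans (hn 1 ?_)
    rw [Scheme.IdealSheafData.ideal_pow]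
    simp only [Pi.pow_apply]
    rw [← ideal_comap_ι _ hW0, hP]
    show (1 : Γ((P : Scheme.{u}), W0)) ∈ (⊤ : Ideal Γ((P : Scheme.{u}), W0)) ^ n
    rw [Ideal.top_pow]
    trivial
  show ((Scheme.Modules.pullback b).obj F).presheaf.germ _ y hy m =
    ((Scheme.Modules.pullback b).obj F).presheaf.germ _ y hy 0
  rw [← M1.germ_mres ((Scheme.Modules.pullback b).obj F) hle hy0, hzero, map_zero, map_zero]

end Groth.Agent.StrictTf14
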