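import Groth.Agent.Lib.FitGen26.Basic
import Groth.Agent.Lib.Fitting.Projective
import Groth.Agent.Lib.EffCartier.Mul
import Groth.Prelude.Def_BlowUp2

/-!
Quotients by the torsion of a Cartier divisor of modules with principal Fitting ideal.
-/

set_option autoImplicit false
universe u

set_option backward.isDefEq.respectTransparency.types false

open CategoryTheory AlgebraicGeometry TopologicalSpace Opposite

namespace Groth.Agent.StrictTf14

variable {X : Scheme.{u}} {M G : X.Modules} (π : M ⟶ G)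

/-- The sections over `V` killed by a power of `f`. -/
def torsion (M : X.Modules) {V : X.Opens} (f : Γ(X, V)) : Submodule Γ(X, V) Γ(M, V) where
  carrier := {y | ∃ n : ℕ, f ^ n • y = 0}
  zero_mem' := ⟨0, smul_zero _⟩
  add_mem' := by
    rintro a b ⟨n, hn⟩ ⟨m, hm⟩
    refine ⟨n + m, ?_⟩
    rw [smul_add, pow_add, mul_smul, mul_smul, hm, smul_zero, smul_comm, hn, smul_zero, add_zero]
  smul_mem' := by
    rintro c a ⟨n, hn⟩
    exact ⟨n, by rw [smul_comm, hn, smul_zero]⟩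

variable (E : X.IdealSheafData)
  (hker : ∀ (V : X.affineOpens) (m : Γ(M, V.1)), π.app V.1 m = 0 ↔ BlowUp.KilledByPowerNear E M V m)

include hker in
theorem app_eq_zero_of_torsion {V : X.Opens} (hV : IsAffineOpen V) {f : Γ(X, V)}
    (hf : E.ideal ⟨V, hV⟩ = Ideal.span {f}) {y : Γ(M, V)} (hy : y ∈ torsion M f) :
    π.app V y = 0 := by
  obtain ⟨n, hn⟩ := hy
  refine (hker ⟨V, hV⟩ y).mpr ⟨n, fun a ha => ?_⟩
  rw [Scheme.IdealSheafData.ideal_pow] at ha
  simp only [Pi.pow_apply, hf, Ideal.span_singleton_pow] at ha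
  obtain ⟨c, rfl⟩ := Ideal.mem_span_singleton'.mp ha
  rw [mul_smul, hn, smul_zero]

include hker in
theorem exists_mul_mem_torsion (hM : Coh.IsQCoh M) {V : X.Opens} (hV : IsAffineOpen V) {f : Γ(X, V)}
    (hf : E.ideal ⟨V, hV⟩ = Ideal.span {f}) {z : X} (hz : z ∈ V) {y : Γ(M, V)}
    (hy : G.presheaf.germ V z hz (π.app V y) = 0) :
    ∃ r : Γ(X, V), IsUnit (X.presheaf.germ V z hz r) ∧ r • y ∈ torsion M f := by
  haveI := hM
  obtain ⟨W, hzW, i₁, i₂, he⟩ := G.presheaf.germ_eq z hz hz (π.app V y) 0 (hy.trans (map_zero _).symm)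
  obtain ⟨g, hgW, hzg⟩ := hV.exists_basicOpen_le ⟨z, hzW⟩ hz
  have hWV : X.basicOpen g ≤ V := X.basicOpen_le g
  have h0 : π.app (X.basicOpen g) (M1.mres M hWV y) = 0 := by
    rw [M1.app_mres]
    rw [← M1.mres_mres G i₁.le hgW]
    refine (congrArg _ he).trans ?_
    rw [map_zero, map_zero]
  obtain ⟨n, hn⟩ := (hker ⟨X.basicOpen g, hV.basicOpen g⟩ (M1.mres M hWV y)).mp h0
  have hfn : M1.ores hWV (f ^ n) ∈ (E ^ n).ideal ⟨X.basicOpen g, hV.basicOpen g⟩ := by
    rw [Scheme.IdealSheafData.ideal_pow, map_pow]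
    refine Ideal.pow_mem_pow ?_ n
    rw [← E.map_ideal (U := ⟨X.basicOpen g, hV.basicOpen g⟩) (V := ⟨V, hV⟩) hWV, hf]
    exact Ideal.mem_map_of_mem _ (Ideal.mem_span_singleton_self f)
  have h1 := hn _ hfn
  rw [← M1.mres_smul] at h1
  obtain ⟨N, hN⟩ := M1.exists_pow_smul_eq_zero_affine M hV g (f ^ n • y) h1
  refine ⟨g ^ N, ?_, n, ?_⟩
  · rw [map_pow]; exact ((X.mem_basicOpen g z hz).mp hzg).pow N
  · rw [smul_comm]; exact hN

variable [Epi π]

include hker in
/-- The data produced near a point: generators of `G` on a basic open, independent if the lower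
Fitting ideal vanishes. -/
theorem exists_hom_basicOpen (hM : Coh.IsQCoh M) (hFT : CohB1.IsFT M) (k : ℕ)
    (hE : E = Fitt.sheafIdeal M k) {V : X.Opens} (hV : IsAffineOpen V) {f : Γ(X, V)}
    (hf0 : f ∈ nonZeroDivisors Γ(X, V)) (hf : E.ideal ⟨V, hV⟩ = Ideal.span {f}) {x : X} (hx : x ∈ V) :
    ∃ (D : X.Opens) (q : (M1.fr (ULift.{u} (Fin k)) : (D : Scheme.{u}).Modules) ⟶ G.restrict D.ι),
      x ∈ D ∧ Epi q ∧
      ((k = 0 ∨ Fitt.ideal Γ(X, V) Γ(M, V) (k - 1) = ⊥) → IsIso q) := by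
  haveI := hM
  haveI := M1.finite_sections hM hFT hV
  have hfit : Fitt.ideal Γ(X, V) Γ(M, V) k = Ideal.span {f} := by
    rw [← Fitting26.sheafIdeal_ideal hM hFT k ⟨V, hV⟩, ← hE, hf]
  obtain ⟨u, g, N, hu, hgen, hrel⟩ := FittingLib.exists_generators_quotient_ker k f hf0 hfit
    (P := torsion M f) (fun y hy => ⟨1, by rwa [pow_one]⟩) (fun y hy => hy)
    (hV.primeIdealOf ⟨x, hx⟩).asIdeal (hV.primeIdealOf ⟨x, hx⟩).isPrime.ne_top
  let D := X.basicOpen u
  have hle : D.ι ''ᵁ ⊤ ≤ V := by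
    rintro _ ⟨z, -, rfl⟩
    exact X.basicOpen_le u z.2
  let σ : ULift.{u} (Fin k) → Γ(G.restrict D.ι, ⊤) := fun i =>
    (G.restrictAppIso D.ι ⊤).inv (G.presheaf.map (homOfLE hle).op (π.app V (g i.down)))
  have hspan : ∀ y : Γ(M, V), ∃ a : Fin k → Γ(X, V), u • y - ∑ i, a i • g i ∈ torsion M f := by
    intro y
    obtain ⟨a, ha⟩ := (Submodule.mem_span_range_iff_exists_fun Γ(X, V)).mp
      (hgen ((torsion M f).mkQ y))
    refine ⟨a, (Submodule.Quotient.eq _).mp ?_⟩
    show (torsion M f).mkQ (u • y) = (torsion M f).mkQ (∑ i, a i • g i)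
    rw [map_smul, map_sum]
    simpa using ha.symm
  have hepi : Epi (M1.freeHom σ) := by
    refine FitGen26.epi_of_span σ fun z => eq_top_iff.2 fun w _ => ?_
    obtain ⟨e, he, heg⟩ := FitGen26.exists_stalk_equiv G D z
    let σe := (D.stalkIso z).commRingCatIsoToRingEquiv
    have hzV : z.1 ∈ V := X.basicOpen_le u z.2
    have huz : IsUnit (X.presheaf.germ V z.1 hzV u) := (Scheme.mem_basicOpen X u z.1 hzV).1 z.2
    let S := Submodule.span ((D : Scheme.{u}).presheaf.stalk z)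
      (Set.range fun i => (G.restrict D.ι).presheaf.germ ⊤ z trivial (σ i))
    obtain ⟨v, hv⟩ := (M1.epi_iff_stalk π).1 inferInstance z.1 (e w)
    obtain ⟨c, m, hc, hcm⟩ := M1.exists_germ_smul_eq M hV hzV v
    obtain ⟨a, ha⟩ := hspan m
    have hπ := app_eq_zero_of_torsion π E hker hV hf ha
    rw [map_sub, sub_eq_zero] at hπ
    obtain ⟨t, ht, hte⟩ : ∃ t ∈ S, e t = G.presheaf.germ V z.1 hzV (π.app V (∑ i, a i • g i)) := by
      refine Submodule.span_induction (p := fun y _ => ∃ t ∈ S, e t = G.presheaf.germ V z.1 hzV (π.app V y))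
        ?_ ?_ ?_ ?_ ((Submodule.mem_span_range_iff_exists_fun Γ(X, V)).mpr ⟨a, rfl⟩)
      · rintro _ ⟨i, rfl⟩
        refine ⟨_, Submodule.subset_span ⟨⟨i⟩, rfl⟩, ?_⟩
        rw [heg]
        simp only [σ, Iso.inv_hom_id_apply]
        exact TopCat.Presheaf.germ_res_apply G.presheaf (homOfLE hle) z.1 _ (π.app V (g i))
      · exact ⟨0, zero_mem _, by rw [map_zero, map_zero, map_zero]⟩
      · rintro a b _ _ ⟨t, ht, hte⟩ ⟨t', ht', hte'⟩
        exact ⟨t + t', add_mem ht ht', by rw [map_add, map_add, map_add, hte, hte']⟩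
      · rintro c a _ ⟨t, ht, hte⟩
        refine ⟨σe.symm (X.presheaf.germ V z.1 hzV c) • t, S.smul_mem _ ht, ?_⟩
        rw [he, hte, Scheme.Modules.Hom.app_smul, RH26.gsmul]
        congr 1
        exact σe.apply_symm_apply _
    have hcm' : X.presheaf.germ V z.1 hzV c • e w = G.presheaf.germ V z.1 hzV (π.app V m) := by
      rw [← hv, ← RefHull.stalkMapₗ_germ π z.1 hzV m, ← hcm, map_smul]
      rfl
    rw [← hπ, Scheme.Modules.Hom.app_smul, RH26.gsmul, ← hcm', ← mul_smul] at hte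
    obtain ⟨l, hl⟩ := (huz.mul hc).exists_left_inv
    have hwt : w = σe.symm l • t := by
      apply e.injective
      rw [he, hte, show (D.stalkIso z).hom (σe.symm l) = l from σe.apply_symm_apply l, ← mul_smul, hl,
        one_smul]
    rw [hwt]
    exact S.smul_mem _ ht
  refine ⟨D, M1.freeHom σ,
    (Scheme.mem_basicOpen X u x hx).2 ((M1.isUnit_germ_iff hV hx u).2 hu), hepi, fun hk => ?_⟩
  rw [M1.isIso_iff_stalk]
  refine fun z => ⟨?_, (M1.epi_iff_stalk _).1 hepi z⟩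
  obtain ⟨e, he, heg⟩ := FitGen26.exists_stalk_equiv G D z
  let σe := (D.stalkIso z).commRingCatIsoToRingEquiv
  have hzV : z.1 ∈ V := X.basicOpen_le u z.2
  have huz : IsUnit (X.presheaf.germ V z.1 hzV u) := (Scheme.mem_basicOpen X u z.1 hzV).1 z.2
  rw [injective_iff_map_eq_zero]
  intro v hv
  let p₀ := 𝟙 (M1.fr (ULift.{u} (Fin k)) : (D : Scheme.{u}).Modules)
  have hv₀ := FitGen26.stalkMap_free p₀ z v
  rw [show RefHull.stalkMapₗ p₀ z v = v from
    ConcreteCategory.congr_hom ((M1.stalkAb z).map_id _) v] at hv₀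
  obtain ⟨c, hc⟩ := (Submodule.mem_span_range_iff_exists_fun _).mp hv₀
  have hgen' : ∀ i, e (RefHull.stalkMapₗ (M1.freeHom σ) z
      ((M1.fr (ULift.{u} (Fin k)) : (D : Scheme.{u}).Modules).presheaf.germ ⊤ z trivial
        (M1.freeSec p₀ i))) = G.presheaf.germ V z.1 hzV (π.app V (g i.down)) := fun i => by
    rw [RefHull.stalkMapₗ_germ]
    have hsec : (M1.freeHom σ).app ⊤ (M1.freeSec p₀ i) = σ i := by
      have : M1.freeSec (M1.freeHom σ) i = σ i := by
        rw [M1.freeSec, M1.ιF_freeHom, M1.secHom_app_one]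
      exact this
    rw [hsec, heg]
    simp only [σ, Iso.inv_hom_id_apply]
    exact TopCat.Presheaf.germ_res_apply G.presheaf (homOfLE hle) z.1 _ (π.app V (g i.down))
  have hsum : ∑ i, σe (c i) • G.presheaf.germ V z.1 hzV (π.app V (g i.down)) = 0 := by
    have h0 : e (RefHull.stalkMapₗ (M1.freeHom σ) z v) = 0 := by
      rw [show RefHull.stalkMapₗ (M1.freeHom σ) z v = 0 from hv, map_zero]
    rw [← hc, map_sum, map_sum] at h0
    refine Eq.trans (Finset.sum_congr rfl fun i _ => ?_) h0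
    rw [map_smul, he, hgen']
    rfl
  letI := TopCat.Presheaf.algebra_section_stalk X.presheaf (⟨z.1, hzV⟩ : V)
  haveI := hV.isLocalization_stalk ⟨z.1, hzV⟩
  obtain ⟨s, hs⟩ := IsLocalization.exist_integer_multiples_of_finite
    (hV.primeIdealOf ⟨z.1, hzV⟩).asIdeal.primeCompl fun i => σe (c i)
  choose a ha using hs
  have ha' : ∀ i, X.presheaf.germ V z.1 hzV (a i) =
      X.presheaf.germ V z.1 hzV (s : Γ(X, V)) * σe (c i) := ha
  have hzero : G.presheaf.germ V z.1 hzV (π.app V (∑ i, a i • g i.down)) = 0 := by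
    rw [map_sum, map_sum]
    simp only [Scheme.Modules.Hom.app_smul, RH26.gsmul, ha', mul_smul, ← Finset.smul_sum, hsum,
      smul_zero]
  obtain ⟨r, hr, hrt⟩ := exists_mul_mem_torsion π E hker hM hV hf hzV hzero
  have hc0 : ∀ i, c i = 0 := by
    intro i
    have h0 := hrel hk (fun j => r * a ⟨j⟩) (by
      rw [← Equiv.sum_comp (Equiv.ulift.{u} (α := Fin k))]
      show ∑ j : ULift.{u} (Fin k), (r * a j) • (torsion M f).mkQ (g j.down) = 0
      simp only [mul_smul, ← Finset.smul_sum, ← map_smul, ← map_sum]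
      exact (Submodule.Quotient.mk_eq_zero _).mpr hrt) i.down
    have h1 := congrArg (X.presheaf.germ V z.1 hzV) h0
    rw [map_mul, map_mul, map_pow, map_zero, ha', ← mul_assoc, ← mul_assoc,
      (((huz.pow N).mul hr).mul ((M1.isUnit_germ_iff hV hzV _).2 s.2)).mul_right_eq_zero] at h1
    exact σe.map_eq_zero_iff.mp h1
  rw [← hc]
  simp only [hc0, zero_smul, Finset.sum_const_zero]
  rfl

end Groth.Agent.StrictTf14
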