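import Groth.Agent.Lib.RankStratum13.Basic
import Groth.Agent.Lib.ModM1.Coh
import Groth.Agent.Lib.TensorMod.Invertible

/-!
The kernel of an epimorphism onto a finite locally free module is finitely presented.
-/

set_option autoImplicit false
universe u

set_option backward.isDefEq.respectTransparency.types false

open CategoryTheory CategoryTheory.Limits AlgebraicGeometry

namespace Groth.Agent.StrictTf14

theorem finitePresentation_ker {R M N : Type*} [CommRing R] [AddCommGroup M] [AddCommGroup N]
    [Module R M] [Module R N] [Module.FinitePresentation R M] [Module.Projective R N] [Module.Finite R N]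
    (f : M →ₗ[R] N) (hf : Function.Surjective f) : Module.FinitePresentation R (LinearMap.ker f) := by
  obtain ⟨s, hs⟩ := f.exists_rightInverse_of_surjective (LinearMap.range_eq_top.mpr hf)
  have hs' : ∀ n, f (s n) = n := fun n => LinearMap.congr_fun hs n
  let p : M →ₗ[R] LinearMap.ker f :=
    (LinearMap.id - s.comp f).codRestrict _ fun m => by simp [hs']
  refine Module.finitePresentation_of_surjective p (fun k => ⟨k.1, Subtype.ext ?_⟩) ?_
  · simp [p, LinearMap.mem_ker.mp k.2]
  · rw [LinearMap.ker_codRestrict]
    have hker : LinearMap.ker (LinearMap.id - s.comp f) = LinearMap.range s := by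
      ext m
      simp only [LinearMap.mem_ker, LinearMap.sub_apply, LinearMap.id_apply, LinearMap.comp_apply,
        LinearMap.mem_range, sub_eq_zero]
      exact ⟨fun h => ⟨f m, h.symm⟩, fun ⟨n, hn⟩ => by rw [← hn, hs']⟩
    rw [hker, LinearMap.range_eq_map]
    exact Submodule.FG.map _ Module.Finite.fg_top

theorem isFP_kernel_of_isFinLocFreeOfRank {X : Scheme.{u}} {M G : X.Modules} (hM : CohB1.IsFP M)
    {k : ℕ} (hG : FlatMod.IsFinLocFreeOfRank k G) (φ : M ⟶ G) [Epi φ] :
    CohB1.IsFP (kernel φ) := by
  have hGq : Coh.IsQCoh G := M2.isQCoh_of_isFinLocFree fun x => by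
    obtain ⟨U, hx, e⟩ := hG x
    exact ⟨U, k, hx, e⟩
  have hMq := M1.isFP_isQCoh hM
  have hK := M1.isQCoh_kernel hMq hGq φ
  choose U hxU he using hG
  choose W hW hxW hWU using fun x => exists_isAffineOpen_mem_and_subset (x := x) (U := U x) (hxU x)
  refine M1.isFP_of_openImmersion_cover (fun x => (hW x).fromSpec)
    (fun x => ⟨x, by rw [IsAffineOpen.range_fromSpec]; exact hxW x⟩) fun x => ?_
  obtain ⟨e⟩ := he x
  obtain ⟨B⟩ := RankStratum13.exists_basis_of_freeMod hGq e (hW x) (hWU x)
  haveI : Module.Free Γ(X, W x) Γ(G, W x) := .of_basis B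
  haveI : Module.Finite Γ(X, W x) Γ(G, W x) := Module.Finite.of_basis B
  haveI := M1.finitePresentation_sections hM (hW x)
  let f : Γ(M, W x) →ₗ[Γ(X, W x)] Γ(G, W x) :=
    { toFun := φ.app (W x)
      map_add' := map_add _
      map_smul' := fun r m => Scheme.Modules.Hom.app_smul φ r m }
  haveI := finitePresentation_ker f (M1.app_surjective_affine_of_isQCoh hMq hGq φ (hW x))
  let ι : Γ(kernel φ, W x) →ₗ[Γ(X, W x)] Γ(M, W x) :=
    { toFun := (kernel.ι φ).app (W x)
      map_add' := map_add _
      map_smul' := fun r m => Scheme.Modules.Hom.app_smul (kernel.ι φ) r m }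
  have hinj : Function.Injective ι := M1.app_injective (kernel.ι φ) (W x)
  have hrange : LinearMap.range ι = LinearMap.ker f := by
    ext m
    constructor
    · rintro ⟨a, rfl⟩
      show ((kernel.ι φ) ≫ φ).app (W x) a = 0
      rw [kernel.condition]
      rfl
    · intro hm
      obtain ⟨a, ha⟩ := M1.sections_exact (S := ShortComplex.mk _ _ (kernel.condition φ))
        (ShortComplex.exact_of_f_is_kernel _ (kernelIsKernel φ)) (W x) m hm
      exact ⟨a, ha⟩
  haveI : Module.FinitePresentation Γ(X, W x) Γ(kernel φ, W x) :=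
    M1.finitePresentation_of_linearEquiv
      ((LinearEquiv.ofInjective ι hinj).trans (LinearEquiv.ofEq _ _ hrange)).symm
  exact (M1.isFP_iff_finitePresentation_spec _ (M1.isQCoh_fromSpec hK (hW x))).mpr
    (M1.finitePresentation_of_linearEquiv (M1.affineSecEquiv (kernel φ) (hW x)).symm)

end Groth.Agent.StrictTf14
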